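import Groth.Agent.BlowRegLib.FppfQuot
import Groth.Agent.WeilResLib.GrpGen
import Groth.Agent.GrpFieldLib.Identity
import Mathlib.AlgebraicGeometry.Morphisms.LocalFlatDescent
import Mathlib.AlgebraicGeometry.Sites.MorphismProperty
import Mathlib.AlgebraicGeometry.Geometrically.Connected
import Mathlib.AlgebraicGeometry.PullbackCarrier

/-! Extensions of sheaves of commutative groups whose kernel is an abelian scheme. -/

set_option autoImplicit false
set_option linter.style.haveILetI false
set_option backward.isDefEq.respectTransparency false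
set_option maxHeartbeats 400000

noncomputable section

universe u

open CategoryTheory CategoryTheory.Limits MonoidalCategory CartesianMonoidalCategory AlgebraicGeometry Opposite
open scoped MonObj

attribute [-instance] CategoryTheory.Hom.commGroup

namespace TorusExtLib

variable {S : Scheme.{u}}

/-- The fibres of the projection are translates of the kernel over any section. -/
theorem isPullback_trans {A E T : Over S} [GrpObj E] [GrpObj T] (u : A ⟶ E) (v : E ⟶ T) [IsMonHom v]
    (hk : IsPullback u (toUnit A) v η[T]) {T' : Over S} (c : T' ⟶ T) (s : T' ⟶ E)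
    (hs : s ≫ v = c) : IsPullback ((fst A T' ≫ u) * (snd A T' ≫ s)) (snd A T') v c := by
  have huv : u ≫ v = 1 := hk.w.trans Hom.one_def.symm
  have hw : ((fst A T' ≫ u) * (snd A T' ≫ s)) ≫ v = snd A T' ≫ c := by
    rw [MonObj.mul_comp, Category.assoc, Category.assoc, huv, hs, MonObj.comp_one, _root_.one_mul]
  have hex : ∀ {Z : Over S} (e : Z ⟶ E) (t : Z ⟶ T'), e ≫ v = t ≫ c →
      ∃ l : Z ⟶ A ⊗ T', l ≫ ((fst A T' ≫ u) * (snd A T' ≫ s)) = e ∧ l ≫ snd A T' = t := by
    intro Z e t h
    obtain ⟨a, ha⟩ : ∃ a : Z ⟶ A, a ≫ u = e * (t ≫ s)⁻¹ :=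
      ⟨hk.lift _ (toUnit _) (by
        rw [MonObj.mul_comp, GrpObj.inv_comp, Category.assoc, hs, h, mul_inv_cancel, Hom.one_def]), hk.lift_fst _ _ _⟩
    refine ⟨lift a t, ?_, lift_snd _ _⟩
    rw [MonObj.comp_mul, ← Category.assoc, ← Category.assoc, lift_fst, lift_snd, ha, inv_mul_cancel_right]
  choose l hl1 hl2 using fun d : PullbackCone v c => hex d.fst d.snd d.condition
  refine IsPullback.of_isLimit' ⟨hw⟩ (PullbackCone.IsLimit.mk hw l hl1 hl2 fun d m h1 h2 => ?_)
  have hsnd : m ≫ snd A T' = l d ≫ snd A T' := h2.trans (hl2 d).symm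
  refine CartesianMonoidalCategory.hom_ext _ _ (hk.hom_ext ?_ (toUnit_unique _ _)) hsnd
  have h3 := h1.trans (hl1 d).symm
  rw [MonObj.comp_mul, MonObj.comp_mul, reassoc_of% hsnd] at h3
  exact (Category.assoc _ _ _).trans ((mul_right_cancel h3).trans (Category.assoc _ _ _).symm)

variable {A E T : Over S} [GrpObj A] [IsCommMonObj A] [GrpObj E] [IsCommMonObj E]
  [GrpObj T] [IsCommMonObj T] (u : A ⟶ E) (v : E ⟶ T) [IsMonHom u] [IsMonHom v] (w : u ≫ v = 1)

/-- An fppf cover of the quotient over which the projection has a section. -/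
theorem exists_section_cover (hepi : Epi (CGrpSh.ptsMap Scheme.fppfPrecoverage v)) :
    ∃ (T' : Scheme.{u}) (c : T' ⟶ T.left) (s : Over.mk (c ≫ T.hom) ⟶ E),
      Surjective c ∧ Flat c ∧ LocallyOfFinitePresentation c ∧ s ≫ v = Over.homMk c rfl := by
  obtain ⟨R, hR, hl⟩ := BlowRegLib.FppfQuot.lift_loc v hepi (𝟙 T)
  rw [GrothendieckTopology.mem_over_iff] at hR
  obtain ⟨P, hP, hPR⟩ := (Precoverage.mem_toGrothendieck_iff_of_isStableUnderComposition
    (J := Scheme.fppfPrecoverage)).1 hR
  have h1 : ∀ x : T.left, ∃ (Y : Scheme.{u}) (f : Y ⟶ T.left), P f ∧ x ∈ Set.range f.base ∧ Flat f ∧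
      LocallyOfFinitePresentation f := by
    intro x
    obtain ⟨I, Y, f, rfl⟩ := P.exists_eq_ofArrows
    obtain ⟨hcov, hprop⟩ := Scheme.ofArrows_mem_precoverage_iff (P := @Flat ⊓ @LocallyOfFinitePresentation).1 hP
    obtain ⟨i, hi⟩ := hcov x
    exact ⟨Y i, f i, Presieve.ofArrows.mk i, hi, (hprop i).1, (hprop i).2⟩
  choose Y f hf hx hfl hfp using h1
  have hs : ∀ x, ∃ z : Over.mk (f x ≫ T.hom) ⟶ E, z ≫ v = Over.homMk (f x) rfl := fun x => by
    obtain ⟨z, hz⟩ := hl (Over.mk (f x ≫ T.hom)) (Over.homMk (f x) rfl) ((Sieve.overEquiv_iff _ (f x)).1 (hPR _ _ (hf x)))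
    exact ⟨z, hz.trans (Category.comp_id _)⟩
  choose z hz using hs
  let c : (∐ Y) ⟶ T.left := Sigma.desc f
  refine ⟨∐ Y, c, Over.homMk (Sigma.desc fun x => (z x).left) (Sigma.hom_ext _ _ fun x => ?_), ⟨fun t => ?_⟩,
    IsZariskiLocalAtSource.sigmaDesc hfl, IsZariskiLocalAtSource.sigmaDesc hfp, ?_⟩
  · show Sigma.ι Y x ≫ Sigma.desc (fun x => (z x).left) ≫ E.hom = Sigma.ι Y x ≫ c ≫ T.hom
    rw [Sigma.ι_desc_assoc, Sigma.ι_desc_assoc]
    exact Over.w (z x)
  · obtain ⟨y, hy⟩ := hx t
    exact ⟨(Sigma.ι Y t).base y, by rw [← Scheme.Hom.comp_apply, Sigma.ι_desc]; exact hy⟩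
  · refine Over.OverMorphism.ext (Sigma.hom_ext _ _ fun x => ?_)
    show Sigma.ι Y x ≫ Sigma.desc (fun x => (z x).left) ≫ v.left = Sigma.ι Y x ≫ c
    rw [Sigma.ι_desc_assoc, Sigma.ι_desc]
    exact congrArg CommaMorphism.left (hz x)

/-- The points of the kernel are the points killed by the projection. -/
theorem isPullback_kernel (hex : (CGrpSh.seq Scheme.fppfPrecoverage u v w).ShortExact) :
    IsPullback u (toUnit A) v η[T] := by
  haveI := hex.mono_f
  have hinj : ∀ W, Function.Injective ((CGrpSh.seq Scheme.fppfPrecoverage u v w).f.hom.app W) := fun W => by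
    haveI : Mono (CGrpSh.seq Scheme.fppfPrecoverage u v w).f.hom :=
      (sheafToPresheaf _ _).map_mono (CGrpSh.seq Scheme.fppfPrecoverage u v w).f
    exact (AddCommGrpCat.mono_iff_injective _).1 inferInstance
  have huniq : ∀ {Z : Over S} (a b : Z ⟶ A), a ≫ u = b ≫ u → a = b := fun {Z} a b h =>
    congrArg (fun t => Additive.toMul (ULift.down t))
      (hinj (op Z) (show (CGrpSh.seq Scheme.fppfPrecoverage u v w).f.hom.app (op Z) (ULift.up (Additive.ofMul a)) =
        (CGrpSh.seq Scheme.fppfPrecoverage u v w).f.hom.app (op Z) (ULift.up (Additive.ofMul b)) from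
          ULift.ext _ _ (congrArg Additive.ofMul h)))
  have hex' : ∀ {Z : Over S} (x : Z ⟶ E), x ≫ v = 1 → ∃ a : Z ⟶ A, a ≫ u = x := by
    intro Z x hx
    have he := (hex.exact.map_of_mono_of_preservesKernel (sheafToPresheaf _ _) hex.mono_f
      inferInstance).map_of_mono_of_preservesKernel ((evaluation (Over S)ᵒᵖ AddCommGrpCat.{u + 1}).obj (op Z))
        ((sheafToPresheaf _ _).map_mono (CGrpSh.seq Scheme.fppfPrecoverage u v w).f) inferInstance
    obtain ⟨y, hy⟩ := (ShortComplex.ab_exact_iff _).mp he (ULift.up (Additive.ofMul x))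
      (ULift.ext _ _ (congrArg Additive.ofMul hx))
    exact ⟨y.down.toMul, congrArg (fun t => Additive.toMul (ULift.down t)) hy⟩
  have hw : u ≫ v = toUnit A ≫ η[T] := w.trans (Hom.one_def)
  choose l hl using fun s : PullbackCone v η[T] => hex' s.fst (s.condition.trans
    (by rw [Hom.one_def, toUnit_unique s.snd (toUnit _)]))
  exact IsPullback.of_isLimit' ⟨hw⟩ (PullbackCone.IsLimit.mk hw l hl (fun s => toUnit_unique _ _)
    fun s m h1 _ => huniq m (l s) (h1.trans (hl s).symm))

include w in
/-- The projection inherits the properties of the kernel. -/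
theorem projection_props (hex : (CGrpSh.seq Scheme.fppfPrecoverage u v w).ShortExact)
    [Smooth A.hom] [IsProper A.hom] (hA : ∀ s : S, ConnectedSpace ↥(A.hom.fiber s)) :
    Smooth v.left ∧ Surjective v.left ∧ UniversallyClosed v.left ∧ ∀ t, _root_.IsConnected (v.left.base ⁻¹' {t}) := by
  obtain ⟨T', c, s, hcs, hcf, hcp, hsv⟩ := exists_section_cover v hex.epi_g
  haveI := hcs; haveI := hcf; haveI := hcp
  haveI : GeometricallyConnected A.hom := Groth.Agent.WeilRes.geometricallyConnected_of_grp A hA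
  let T'' : Over S := Over.mk (c ≫ T.hom)
  let c' : T'' ⟶ T := Over.homMk c rfl
  let m : A ⊗ T'' ⟶ E := (fst A T'' ≫ u) * (snd A T'' ≫ s)
  have sq : IsPullback m.left (snd A T'').left v.left c :=
    (isPullback_trans u v (isPullback_kernel u v w hex) c' s hsv).map (Over.forget S)
  have hp : (snd A T'').left = pullback.snd A.hom (c ≫ T.hom) := rfl
  haveI h1 : Smooth (snd A T'').left := hp ▸ inferInstance
  haveI h3 : UniversallyClosed (snd A T'').left := hp ▸ inferInstance
  haveI h4 : GeometricallyConnected (snd A T'').left := hp ▸ inferInstance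
  haveI h2 : Surjective (snd A T'').left := inferInstance
  have hQ : (@Surjective ⊓ @Flat ⊓ @LocallyOfFinitePresentation : MorphismProperty Scheme.{u}) c :=
    ⟨⟨hcs, hcf⟩, hcp⟩
  refine ⟨MorphismProperty.of_isPullback_of_descendsAlong (P := @Smooth) sq.flip hQ h1,
    MorphismProperty.of_isPullback_of_descendsAlong (P := @Surjective) sq.flip hQ h2,
    MorphismProperty.of_isPullback_of_descendsAlong (P := @UniversallyClosed) sq.flip hQ h3, fun t => ?_⟩
  obtain ⟨t', rfl⟩ := c.surjective t
  haveI : Surjective v.left := MorphismProperty.of_isPullback_of_descendsAlong (P := @Surjective) sq.flip hQ h2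
  have himg : m.left.base '' ((snd A T'').left.base ⁻¹' {t'}) = v.left.base ⁻¹' {c.base t'} := by
    ext x
    constructor
    · rintro ⟨y, rfl, rfl⟩
      show v.left.base (m.left.base y) = c.base ((snd A T'').left.base y)
      exact congrArg (fun g : (A ⊗ T'').left ⟶ T.left => g.base y) sq.w
    · intro hx
      obtain ⟨y, hy1, hy2⟩ := Scheme.Pullback.exists_preimage_pullback (f := v.left) (g := c) x t' hx
      refine ⟨sq.isoPullback.inv.base y, ?_, ?_⟩
      · show (snd A T'').left.base (sq.isoPullback.inv.base y) = t'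
        exact (congrArg (fun g : pullback v.left c ⟶ T' => g.base y) sq.isoPullback_inv_snd).trans hy2
      · exact (congrArg (fun g : pullback v.left c ⟶ E.left => g.base y) sq.isoPullback_inv_fst).trans hy1
  rw [← himg]
  exact ((snd A T'').left.isConnected_preimage_singleton t').image _ m.left.continuous.continuousOn

include w in
/-- The middle term is smooth, proper over the quotient, and connected. -/
theorem middle_props (hex : (CGrpSh.seq Scheme.fppfPrecoverage u v w).ShortExact)
    [Smooth A.hom] [IsProper A.hom] (hA : ∀ s : S, ConnectedSpace ↥(A.hom.fiber s))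
    [Smooth T.hom] [QuasiCompact T.hom] [ConnectedSpace T.left] :
    Smooth E.hom ∧ QuasiCompact E.hom ∧ ConnectedSpace ↥E.left := by
  obtain ⟨h1, h2, h3, h4⟩ := projection_props u v w hex hA
  haveI := h1; haveI := h2; haveI := h3
  refine ⟨by rw [← Over.w v]; infer_instance, by rw [← Over.w v]; infer_instance, ?_⟩
  have hq : Topology.IsCoinducing v.left.base :=
    (v.left.isOpenMap.isQuotientMap v.left.continuous v.left.surjective).isCoinducing
  obtain ⟨t₀⟩ := ConnectedSpace.toNonempty (α := T.left)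
  obtain ⟨e₀, he₀⟩ := v.left.surjective t₀
  refine connectedSpace_iff_connectedComponent.2 ⟨e₀, ?_⟩
  rw [← hq.preimage_connectedComponent h4 e₀, PreconnectedSpace.connectedComponent_eq_univ, Set.preimage_univ]

end TorusExtLib

end
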